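import Mathlib
import Cfsg.Agent.Base
import Cfsg.Agent.Lib.ZD.BasicA

/-!
# A coprime automorphism centralising the centraliser of an involution, I

`α` generates a Sylow `r`-subgroup of order `r` of `Γ` and survives in a quotient of order `r`.
-/

set_option autoImplicit false
set_option linter.unusedSectionVars false

namespace H24.Cop

open Cfsg H45 H69

universe u

variable {Γ : Type u} [Group Γ] [Finite Γ] {r : ℕ} {φ : Γ →* Multiplicative (ZMod r)} {α τ : Γ}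

/-- `α` acts on `ker φ` as a coprime automorphism of prime order `r`. -/
structure CA (r : ℕ) (φ : Γ →* Multiplicative (ZMod r)) (α : Γ) : Prop where
  pr : r.Prime
  ne2 : r ≠ 2
  ord : orderOf α = r
  nsq : ¬ r ^ 2 ∣ Nat.card Γ
  ph : φ α ≠ 1

/-- The conjugates of `α`. -/
def Cl (α : Γ) : Set Γ := {β | ∃ g : Γ, g * α * g⁻¹ = β}

theorem self_mem_Cl (α : Γ) : α ∈ Cl α := ⟨1, by simp⟩

theorem conj_mem_Cl {β : Γ} (h : β ∈ Cl α) (g : Γ) : g * β * g⁻¹ ∈ Cl α := by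
  obtain ⟨x, rfl⟩ := h
  exact ⟨g * x, by group⟩

theorem Cl_eq {β : Γ} (h : β ∈ Cl α) : Cl β = Cl α := by
  obtain ⟨x, rfl⟩ := h
  ext y
  constructor
  · rintro ⟨g, rfl⟩
    exact ⟨g * x, by group⟩
  · rintro ⟨g, rfl⟩
    exact ⟨g * x⁻¹, by group⟩

theorem orderOf_conj' (g x : Γ) : orderOf (g * x * g⁻¹) = orderOf x := by
  have := (MulAut.conj g).orderOf_eq x
  simpa using this

theorem CA.orderOf_phi (h : CA r φ α) {g : Γ} (hg : φ g ≠ 1) : orderOf (φ g) = r := by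
  haveI : Fact r.Prime := ⟨h.pr⟩
  have h1 : orderOf (φ g) ∣ r := by
    have := orderOf_dvd_natCard (φ g)
    simpa using this
  rcases (Nat.dvd_prime h.pr).1 h1 with e | e
  · exact absurd (orderOf_eq_one_iff.1 e) hg
  · exact e

theorem CA.of_mem (h : CA r φ α) {β : Γ} (hβ : β ∈ Cl α) : CA r φ β := by
  obtain ⟨g, rfl⟩ := hβ
  refine ⟨h.pr, h.ne2, by rw [orderOf_conj', h.ord], h.nsq, ?_⟩
  simpa using h.ph

theorem phi_eq {β : Γ} (hβ : β ∈ Cl α) : φ β = φ α := by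
  obtain ⟨g, rfl⟩ := hβ
  simp

theorem CA.isP (h : CA r φ α) : IsPGroup r (Subgroup.zpowers α) := by
  haveI : Fact r.Prime := ⟨h.pr⟩
  exact IsPGroup.of_card (n := 1) (by rw [Nat.card_zpowers, h.ord, pow_one])

theorem CA.syl (h : CA r φ α) {X : Subgroup Γ} (hX : α ∈ X) : Syl r (Subgroup.zpowers α) X := by
  haveI : Fact r.Prime := ⟨h.pr⟩
  have hle : Subgroup.zpowers α ≤ X := by simpa using hX
  refine isSylowIn_of_not_dvd_relIndex h.isP hle fun hd => h.nsq ?_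
  have e := Subgroup.relIndex_mul_relIndex (⊥ : Subgroup Γ) (Subgroup.zpowers α) X bot_le hle
  rw [Subgroup.relIndex_bot_left, Subgroup.relIndex_bot_left, Nat.card_zpowers, h.ord] at e
  refine dvd_trans ?_ (Subgroup.card_subgroup_dvd_card X)
  rw [← e, pow_two]
  exact Nat.mul_dvd_mul_left _ hd

/-- conjugates of `α` in `X` are conjugate in `X` -/
theorem CA.conj_in (h : CA r φ α) {X : Subgroup Γ} {β γ : Γ} (hβ : β ∈ Cl α) (hγ : γ ∈ Cl α)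
    (h1 : β ∈ X) (h2 : γ ∈ X) : ∃ x ∈ X, x * β * x⁻¹ = γ := by
  haveI : Fact r.Prime := ⟨h.pr⟩
  obtain ⟨x, hx, e⟩ := ((h.of_mem hβ).syl h1).conj ((h.of_mem hγ).syl h2)
  refine ⟨x, hx, ?_⟩
  rw [cj_zpowers] at e
  have hm : x * β * x⁻¹ ∈ Subgroup.zpowers γ := e ▸ Subgroup.mem_zpowers _
  obtain ⟨i, hi⟩ := Subgroup.mem_zpowers_iff.1 hm
  have e1 : φ γ ^ i = φ γ ^ (1 : ℤ) := by
    rw [← map_zpow, hi, phi_eq (conj_mem_Cl hβ x), zpow_one, phi_eq hγ]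
  have e2 := zpow_eq_zpow_iff_modEq.1 e1
  rw [h.orderOf_phi (h.of_mem hγ).ph, ← (h.of_mem hγ).ord] at e2
  rw [← hi, zpow_eq_zpow_iff_modEq.2 e2, zpow_one]

theorem CA.exists_mem (h : CA r φ α) {Y : Subgroup Γ} {g : Γ} (hg : g ∈ Y) (h1 : φ g ≠ 1) :
    ∃ β ∈ Cl α, β ∈ Y := by
  haveI : Fact r.Prime := ⟨h.pr⟩
  have hd : r ∣ Nat.card Y := by
    rw [← h.orderOf_phi h1]
    exact (orderOf_map_dvd φ g).trans (Subgroup.orderOf_dvd_natCard Y hg)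
  obtain ⟨x, hx⟩ := exists_prime_orderOf_dvd_card' r hd
  have hx' : orderOf (x : Γ) = r := by rw [Subgroup.orderOf_coe, hx]
  have hP : IsPGroup r (Subgroup.zpowers (x : Γ)) :=
    IsPGroup.of_card (n := 1) (by rw [Nat.card_zpowers, hx', pow_one])
  obtain ⟨c, -, hc⟩ := (h.syl (Subgroup.mem_top α)).exists_le_cj hP le_top
  rw [cj_zpowers] at hc
  have e : Subgroup.zpowers (x : Γ) = Subgroup.zpowers (c * α * c⁻¹) :=
    Subgroup.eq_of_le_of_card_ge hc (by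
      rw [Nat.card_zpowers, Nat.card_zpowers, orderOf_conj', h.ord, hx'])
  refine ⟨c * α * c⁻¹, ⟨c, rfl⟩, ?_⟩
  have : Subgroup.zpowers (x : Γ) ≤ Y := by simp
  exact this (e ▸ Subgroup.mem_zpowers _)

theorem CA.phi_eq_one (h : CA r φ α) {x : Γ} (hx : (orderOf x).Coprime r) : φ x = 1 := by
  by_contra h1
  have := (h.orderOf_phi h1) ▸ orderOf_map_dvd φ x
  exact h.pr.one_lt.ne' (Nat.Coprime.eq_one_of_dvd hx.symm this)

theorem CA.le_ker (h : CA r φ α) {R : Subgroup Γ} (hR : IsPGroup 2 R) : R ≤ φ.ker := by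
  intro x hx
  obtain ⟨k, hk⟩ := hR ⟨x, hx⟩
  have hk' : x ^ 2 ^ k = 1 := by simpa using congrArg Subtype.val hk
  refine h.phi_eq_one (Nat.Coprime.coprime_dvd_left (orderOf_dvd_of_pow_eq_one hk') ?_)
  exact Nat.Coprime.pow_left _ ((Nat.coprime_primes Nat.prime_two h.pr).2 h.ne2.symm)

/-- `α` centralises the centraliser of the involution `τ`. -/
structure CH (r : ℕ) (φ : Γ →* Multiplicative (ZMod r)) (α τ : Γ) : Prop extends CA r φ α where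
  t1 : τ ≠ 1
  t2 : τ * τ = 1
  cen : ∀ g : Γ, g * τ = τ * g → g * α = α * g

theorem CH.comm (h : CH r φ α τ) : τ * α = α * τ := h.cen τ rfl

theorem CH.uniq (h : CH r φ α τ) {β : Γ} (hβ : β ∈ Cl α) (hc : β * τ = τ * β) : β = α := by
  obtain ⟨x, hx, rfl⟩ := h.toCA.conj_in (X := 𝐂[τ]) (self_mem_Cl α) hβ
    (mem_cent1_iff.2 h.comm.symm) (mem_cent1_iff.2 hc)
  rw [h.cen x (mem_cent1_iff.1 hx)]
  group

theorem CH.conj (h : CH r φ α τ) (g : Γ) : CH r φ (g * α * g⁻¹) (g * τ * g⁻¹) := by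
  refine ⟨h.toCA.of_mem ⟨g, rfl⟩, H40.RankOne.conj_ne_one h.t1, H40.RankOne.conj_sq h.t2, fun x hx => ?_⟩
  have := h.cen (g⁻¹ * x * g) (by
    have e : g⁻¹ * x * g * τ = g⁻¹ * (x * (g * τ * g⁻¹)) * g := by group
    rw [e, hx]; group)
  calc x * (g * α * g⁻¹) = g * (g⁻¹ * x * g * α) * g⁻¹ := by group
    _ = _ := by rw [this]; group

theorem isPGroup_zpowers_of_sq {t : Γ} (ht : t * t = 1) : IsPGroup 2 (Subgroup.zpowers t) := by
  rintro ⟨x, hx⟩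
  obtain ⟨i, rfl⟩ := Subgroup.mem_zpowers_iff.1 hx
  refine ⟨1, Subtype.ext ?_⟩
  show (t ^ i) ^ 2 ^ 1 = 1
  rw [pow_one, ← zpow_natCast, ← zpow_mul, mul_comm, zpow_mul, zpow_natCast, pow_two, ht, one_zpow]

theorem CH.exists_syl (h : CH r φ α τ) : ∃ S : Subgroup Γ, Syl 2 S ⊤ ∧ S ≤ 𝐂[α] := by
  obtain ⟨S, hS, hτ⟩ := exists_isSylowIn_le (isPGroup_zpowers_of_sq h.t2)
    (L := 𝐂[α]) (by simpa using mem_cent1_iff.2 h.comm)
  have hτS : τ ∈ S := hτ (Subgroup.mem_zpowers τ)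
  refine ⟨S, isSylowIn_of_normalizer le_top (hS.mono ?_ ?_), hS.le⟩
  · exact le_inf le_top Subgroup.le_normalizer
  · intro g hg
    have hg' : g⁻¹ * τ * g ∈ S := by
      have := (Subgroup.mem_normalizer_iff.1 (Subgroup.inv_mem _ hg.2) τ).1 hτS
      simpa using this
    have e := mem_cent1_iff.1 (hS.le hg')
    have e2 : g * α * g⁻¹ = α := h.uniq ⟨g, rfl⟩ (by
      calc g * α * g⁻¹ * τ = g * (α * (g⁻¹ * τ * g)) * g⁻¹ := by group
        _ = _ := by rw [← e]; group)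
    rw [mem_cent1_iff]
    calc g * α = g * α * g⁻¹ * g := by group
      _ = _ := by rw [e2]

theorem CH.exists_cent (h : CH r φ α τ) {P : Subgroup Γ} (hP : IsPGroup 2 P) :
    ∃ β ∈ Cl α, β ∈ 𝐂(P) := by
  obtain ⟨S, hS, hSα⟩ := h.exists_syl
  obtain ⟨g, -, hg⟩ := hS.exists_le_cj hP le_top
  refine ⟨g * α * g⁻¹, ⟨g, rfl⟩, fun x hx => ?_⟩
  have := (hg.trans (cj_mono g hSα)) hx
  rw [cj_centralizer_singleton] at this
  exact mem_cent1_iff.1 this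

/-- a `2`-group normalising `X` centralises a conjugate of `α` in `X` -/
theorem CH.exists_fix (h : CH r φ α τ) {X R : Subgroup Γ} (hR : IsPGroup 2 R) (hRX : R ≤ 𝐍(X))
    {β : Γ} (hβ : β ∈ Cl α) (hX : β ∈ X) : ∃ γ ∈ Cl α, γ ∈ X ∧ γ ∈ 𝐂(R) := by
  obtain ⟨P, hP, hRP⟩ := exists_isSylowIn_le hR (L := 𝐍(X) ⊓ φ.ker) (le_inf hRX (h.toCA.le_ker hR))
  have hβN : β ∈ 𝐍(X) := Subgroup.le_normalizer hX
  have hn : β ∈ 𝐍(𝐍(X) ⊓ φ.ker) :=
    H24.ZD.mem_norm_inf (Subgroup.le_normalizer hβN) (by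
      rw [Subgroup.normalizer_eq_top]; trivial)
  obtain ⟨n, hn, a, ha, e⟩ := hP.frattini hn
  have ha1 : a = n⁻¹ * β := by rw [e]; group
  have haN : a ∈ 𝐍(X) := ha1 ▸ Subgroup.mul_mem _ (Subgroup.inv_mem _ hn.1) hβN
  have hφ : φ a ≠ 1 := by
    have : φ n = 1 := hn.2
    rw [ha1, map_mul, map_inv, this, inv_one, one_mul]
    exact (h.toCA.of_mem hβ).ph
  obtain ⟨γ, hγ, hγ'⟩ := h.toCA.exists_mem (Y := 𝐍(X) ⊓ 𝐍(P)) ⟨haN, ha⟩ hφ
  obtain ⟨δ, hδ, hδ'⟩ := h.exists_cent hP.isP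
  obtain ⟨x, hx, e1⟩ := h.toCA.conj_in hδ hγ (Subgroup.centralizer_le_normalizer _ hδ') hγ'.2
  obtain ⟨y, hy, e2⟩ := h.toCA.conj_in hβ hγ hβN hγ'.1
  refine ⟨γ, hγ, ?_, ?_⟩
  · rw [← e2]
    exact (Subgroup.mem_normalizer_iff.1 hy β).1 hX
  · refine Subgroup.centralizer_le (SetLike.coe_subset_coe.2 hRP) ?_
    rw [← e1]
    exact (Subgroup.mem_normalizer_iff.1 (normalizer_le_normalizer_centralizer P hx) δ).1 hδ'

theorem CH.exists_fix1 (h : CH r φ α τ) {X : Subgroup Γ} {t : Γ} (ht : t * t = 1) (htX : t ∈ 𝐍(X))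
    {β : Γ} (hβ : β ∈ Cl α) (hX : β ∈ X) : ∃ γ ∈ Cl α, γ ∈ X ∧ t * γ = γ * t := by
  obtain ⟨γ, h1, h2, h3⟩ := h.exists_fix (isPGroup_zpowers_of_sq ht) (by simpa using htX) hβ hX
  exact ⟨γ, h1, h2, h3 t (Subgroup.mem_zpowers t)⟩

end H24.Cop
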