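import Mathlib
import Cfsg.Agent.Base
import Cfsg.Agent.Lib.Cop.Pet1

/-!
# A coprime automorphism centralising the centraliser of an involution, II: the count
-/

set_option autoImplicit false
set_option linter.unusedSectionVars false

namespace H24.Cop

open Cfsg H45 H69

universe u

theorem part_count {ι : Type*} [DecidableEq ι] (Z : Finset ι) (B : ι → Finset ι)
    (hself : ∀ b ∈ Z, b ∈ B b) (hsub : ∀ b ∈ Z, B b ⊆ Z) (heq : ∀ b ∈ Z, ∀ b' ∈ B b, B b' = B b)
    (P : ι → Prop) [DecidablePred P] (n k : ℕ)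
    (hle : ∀ b ∈ Z, (B b).card * k ≤ n * ((B b).filter P).card)
    {v : ι} (hv : v ∈ Z) (hlt : (B v).card * k < n * ((B v).filter P).card) :
    Z.card * k < n * (Z.filter P).card := by
  have key : ∀ c ∈ Z.image B, Z.filter (fun b => B b = c) = c := by
    intro c hc
    obtain ⟨b, hb, rfl⟩ := Finset.mem_image.1 hc
    ext x
    simp only [Finset.mem_filter]
    exact ⟨fun h => h.2 ▸ hself x h.1, fun h => ⟨hsub b hb h, heq b hb x h⟩⟩
  have e1 : Z.card = ∑ c ∈ Z.image B, c.card := by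
    rw [Finset.card_eq_sum_card_fiberwise (f := B) (t := Z.image B)
      (fun x hx => Finset.mem_image_of_mem B hx)]
    exact Finset.sum_congr rfl fun c hc => by rw [key c hc]
  have e2 : (Z.filter P).card = ∑ c ∈ Z.image B, (c.filter P).card := by
    rw [Finset.card_eq_sum_card_fiberwise (f := B) (t := Z.image B)
      (fun x hx => Finset.mem_image_of_mem B (Finset.mem_filter.1 hx).1)]
    refine Finset.sum_congr rfl fun c hc => ?_
    rw [Finset.filter_comm, key c hc]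
  rw [e1, e2, Finset.sum_mul, Finset.mul_sum]
  refine Finset.sum_lt_sum (fun c hc => ?_) ⟨B v, Finset.mem_image_of_mem B hv, hlt⟩
  obtain ⟨b, hb, rfl⟩ := Finset.mem_image.1 hc
  exact hle b hb

variable {Γ : Type u} [Group Γ] [Finite Γ] {r : ℕ} {φ : Γ →* Multiplicative (ZMod r)} {α τ : Γ}

/-- The involution of a cyclic group of even order. -/
noncomputable def half (g : Γ) : Γ := g ^ (orderOf g / 2)

theorem half_mem (g : Γ) : half g ∈ Subgroup.zpowers g := Subgroup.pow_mem _ (Subgroup.mem_zpowers g) _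

theorem half_sq {g : Γ} (he : Even (orderOf g)) : half g * half g = 1 := by
  obtain ⟨m, hm⟩ := he
  rw [half, ← pow_add, hm, show (m + m) / 2 + (m + m) / 2 = m + m by omega, ← hm, pow_orderOf_eq_one]

theorem half_ne_one {g : Γ} (he : Even (orderOf g)) : half g ≠ 1 := by
  obtain ⟨m, hm⟩ := he
  have := orderOf_pos g
  exact pow_ne_one_of_lt_orderOf (by omega) (by omega)

theorem eq_half {g y : Γ} (hy : y ∈ Subgroup.zpowers g) (h1 : y ≠ 1) (h2 : y * y = 1) : y = half g := by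
  classical
  obtain ⟨j, hj, rfl⟩ := Finset.mem_image.1 (mem_zpowers_iff_mem_range_orderOf.1 hy)
  rw [Finset.mem_range] at hj
  have hj0 : j ≠ 0 := fun e => h1 (by rw [e, pow_zero])
  obtain ⟨c, hc⟩ : orderOf g ∣ j + j := orderOf_dvd_of_pow_eq_one (by rw [pow_add, h2])
  have hc1 : c = 1 := by
    rcases c with _ | _ | c
    · omega
    · rfl
    · nlinarith
  rw [half, show orderOf g / 2 = j by subst hc1; omega]

theorem half_comm {s t : Γ} (hs : s * s = 1) (ht : t * t = 1) (he : Even (orderOf (s * t))) :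
    half (s * t) * s = s * half (s * t) ∧ half (s * t) * t = t * half (s * t) := by
  obtain ⟨c1, c2⟩ := H9.pow_half_commute hs ht he
  exact ⟨c1.eq, c2.eq⟩

/-- the involution of `⟨g⟩` depends only on `g` modulo an odd group centralising it -/
theorem half_mem_of_odd {A : Subgroup Γ} {g w : Γ} (he : Even (orderOf g)) (hA : Odd (Nat.card A))
    (hg : g ∈ 𝐍(A)) (hc : A ≤ 𝐂[half g]) (hw : w ∈ A) : half g ∈ Subgroup.zpowers (g * w) := by
  have key : ∀ j : ℕ, (g ^ j)⁻¹ * (g * w) ^ j ∈ A := by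
    intro j
    induction j with
    | zero => simp
    | succ j ih =>
      have e : (g ^ (j + 1))⁻¹ * (g * w) ^ (j + 1) = g⁻¹ * ((g ^ j)⁻¹ * (g * w) ^ j) * g⁻¹⁻¹ * w := by
        rw [pow_succ, pow_succ]; group
      rw [e]
      exact A.mul_mem ((Subgroup.mem_normalizer_iff.1 (Subgroup.inv_mem _ hg) _).1 ih) hw
  have h1 := key (orderOf g / 2)
  set a := (g ^ (orderOf g / 2))⁻¹ * (g * w) ^ (orderOf g / 2) with ha
  have e : (g * w) ^ (orderOf g / 2) = half g * a := by rw [ha, half]; group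
  have hca : Commute (half g) a := (mem_cent1_iff.1 (hc h1)).symm
  obtain ⟨m, hm⟩ := hA
  have e2 : a ^ (2 * m + 1) = 1 := by
    rw [← hm]
    exact orderOf_dvd_iff_pow_eq_one.1 (Subgroup.orderOf_dvd_natCard A h1)
  have e3 : ((g * w) ^ (orderOf g / 2)) ^ (2 * m + 1) = half g := by
    rw [e, hca.mul_pow, e2, mul_one, pow_succ, pow_mul, pow_two, half_sq he, one_pow, one_mul]
  rw [← e3]
  exact Subgroup.pow_mem _ (Subgroup.pow_mem _ (Subgroup.mem_zpowers _) _) _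

/-- a subset as a `Finset` -/
noncomputable def fs (S : Set Γ) : Finset Γ := (Set.toFinite S).toFinset

theorem mem_fs {S : Set Γ} {x : Γ} : x ∈ fs S ↔ x ∈ S := Set.Finite.mem_toFinset _

open Classical in
/-- the number of elements of `S` commuting with `x` -/
noncomputable def cc (S : Set Γ) (x : Γ) : ℕ := ((fs S).filter fun s => s * x = x * s).card

theorem cc_conj {S : Set Γ} {g : Γ} (h : ∀ s, s ∈ S ↔ g * s * g⁻¹ ∈ S) (x : Γ) :
    cc S (g * x * g⁻¹) = cc S x := by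
  classical
  symm
  refine Finset.card_bij (fun s _ => g * s * g⁻¹) (fun s hs => ?_) (fun s _ t _ e => ?_) (fun s hs => ?_)
  · rw [Finset.mem_filter, mem_fs] at hs ⊢
    refine ⟨(h s).1 hs.1, ?_⟩
    calc g * s * g⁻¹ * (g * x * g⁻¹) = g * (s * x) * g⁻¹ := by group
      _ = _ := by rw [hs.2]; group
  · simpa using e
  · rw [Finset.mem_filter, mem_fs] at hs
    refine ⟨g⁻¹ * s * g, ?_, by group⟩
    rw [Finset.mem_filter, mem_fs]
    refine ⟨(h _).2 (by simpa [mul_assoc] using hs.1), ?_⟩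
    calc g⁻¹ * s * g * x = g⁻¹ * (s * (g * x * g⁻¹)) * g := by group
      _ = _ := by rw [hs.2]; group

theorem cc_Cl {b x y : Γ} (hy : y ∈ Cl x) : cc (Cl b) y = cc (Cl b) x := by
  obtain ⟨g, rfl⟩ := hy
  refine cc_conj (fun s => ⟨fun hs => conj_mem_Cl hs g, fun hs => ?_⟩) x
  have := conj_mem_Cl hs g⁻¹
  simpa [mul_assoc] using this

theorem sum_cc (S T : Set Γ) : ∑ s ∈ fs S, cc T s = ∑ t ∈ fs T, cc S t := by
  classical
  have := Finset.sum_card_bipartiteAbove_eq_sum_card_bipartiteBelow (s := fs S) (t := fs T)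
    (fun s t : Γ => t * s = s * t)
  unfold Finset.bipartiteAbove Finset.bipartiteBelow at this
  unfold cc
  convert this using 4
  exact eq_comm

/-- the subgroup generated by the conjugates of `α` commuting with `y` -/
def AA (α y : Γ) : Subgroup Γ := Subgroup.closure (Cl α ∩ 𝐂[y])

theorem AA_le (α y : Γ) : AA α y ≤ 𝐂[y] := (Subgroup.closure_le _).2 Set.inter_subset_right

theorem mem_AA {β y : Γ} (h : β ∈ Cl α) (hc : β * y = y * β) : β ∈ AA α y :=
  Subgroup.subset_closure ⟨h, mem_cent1_iff.2 hc⟩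

theorem le_norm_AA (α y : Γ) : 𝐂[y] ≤ 𝐍(AA α y) := by
  refine le_normalizer_of_cj_le fun g hg => ?_
  rw [AA, MonoidHom.map_closure, Subgroup.closure_le]
  rintro _ ⟨s, hs, rfl⟩
  refine Subgroup.subset_closure ⟨conj_mem_Cl hs.1 g, ?_⟩
  exact Subgroup.mul_mem _ (Subgroup.mul_mem _ hg hs.2) (Subgroup.inv_mem _ hg)

/-- the class of `b` under `A` -/
def Orb (A : Subgroup Γ) (b : Γ) : Set Γ := {c | ∃ x ∈ A, x * b * x⁻¹ = c}

theorem Orb_eq {A : Subgroup Γ} {b c : Γ} (h : c ∈ Orb A b) : Orb A c = Orb A b := by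
  obtain ⟨x, hx, rfl⟩ := h
  ext y
  constructor
  · rintro ⟨g, hg, rfl⟩
    exact ⟨g * x, A.mul_mem hg hx, by group⟩
  · rintro ⟨g, hg, rfl⟩
    exact ⟨g * x⁻¹, A.mul_mem hg (A.inv_mem hx), by group⟩

theorem self_mem_Orb (A : Subgroup Γ) (b : Γ) : b ∈ Orb A b := ⟨1, A.one_mem, by simp⟩

theorem CH.lb (h : CH r φ α τ) {y b β : Γ} (hyα : α * y = y * α) (hy : y * y = 1) (hb : b * b = 1)
    (hby : b * y = y * b) (hβ : β ∈ Cl α) : cc (Orb (AA α y) b) β ≤ cc (Orb (AA α y) b) α := by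
  classical
  set A := AA α y with hA
  rcases Nat.eq_zero_or_pos (cc (Orb A b) β) with e | e
  · omega
  obtain ⟨c, hc⟩ := Finset.card_pos.1 e
  rw [Finset.mem_filter, mem_fs] at hc
  obtain ⟨hc1, hc2⟩ := hc
  rw [← Orb_eq hc1]
  obtain ⟨hcc, hcy⟩ : c * c = 1 ∧ c ∈ 𝐂[y] := by
    obtain ⟨x, hx, rfl⟩ := hc1
    have := AA_le α y hx
    exact ⟨H40.RankOne.conj_sq hb,
      Subgroup.mul_mem _ (Subgroup.mul_mem _ this (mem_cent1_iff.2 hby)) (Subgroup.inv_mem _ this)⟩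
  have hci := H42.BSE.inv_eq_of_sq hcc
  let I : Set Γ := {w | w * y = y * w ∧ w * β = β * w ∧ c * w * c⁻¹ = w⁻¹}
  have hn : c ∈ 𝐍(Subgroup.centralizer I ⊓ 𝐂[y]) := by
    refine H24.ZD.mem_norm_inf ?_ (Subgroup.le_normalizer hcy)
    refine mem_normalizer_of_cj_le fun x hx w hw => ?_
    obtain ⟨a, ha, rfl⟩ := mem_cj'.1 hx
    have e1 : Commute w⁻¹ a := Commute.inv_left (ha _ hw)
    have e2 : c * w⁻¹ * c⁻¹ = w := by rw [← conj_inv, hw.2.2, inv_inv]
    calc w * (c * a * c⁻¹) = (c * w⁻¹ * c⁻¹) * (c * a * c⁻¹) := by rw [e2]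
      _ = c * (w⁻¹ * a) * c⁻¹ := by group
      _ = (c * a * c⁻¹) * (c * w⁻¹ * c⁻¹) := by rw [e1.eq]; group
      _ = _ := by rw [e2]
  obtain ⟨β1, h1, h2, h3⟩ := h.exists_fix1 (X := Subgroup.centralizer I) hy
    (Subgroup.le_normalizer fun w hw => hw.1) hβ (fun w hw => hw.2.1)
  obtain ⟨γ, g1, ⟨g2, g3⟩, g4⟩ := h.exists_fix1 hcc hn h1 ⟨h2, mem_cent1_iff.2 h3.symm⟩
  obtain ⟨x, hx, rfl⟩ := h.toCA.conj_in (X := A) (self_mem_Cl α) g1 (mem_AA (self_mem_Cl α) hyα)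
    (mem_AA g1 (mem_cent1_iff.1 g3))
  rw [← cc_conj (g := x) (S := Orb A c) (fun s => ⟨fun hs => ?_, fun hs => ?_⟩) α]
  · refine Finset.card_le_card fun s hs => ?_
    rw [Finset.mem_filter, mem_fs] at hs ⊢
    refine ⟨hs.1, ?_⟩
    obtain ⟨⟨a, ha, rfl⟩, hs2⟩ := hs
    have ha' := AA_le α y ha
    have hw : a * c * a⁻¹ * c ∈ I := by
      refine ⟨mem_cent1_iff.1 (Subgroup.mul_mem _ (Subgroup.mul_mem _ (Subgroup.mul_mem _ ha' hcy)
        (Subgroup.inv_mem _ ha')) hcy), ?_, ?_⟩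
      · rw [mul_assoc, hc2, ← mul_assoc, hs2, mul_assoc]
      · simp only [mul_inv_rev, hci, inv_inv]
        calc c * (a * c * a⁻¹ * c) * c = c * (a * c * a⁻¹) * (c * c) := by group
          _ = _ := by rw [hcc]; group
    have e1 : Commute (a * c * a⁻¹ * c) (x * α * x⁻¹) := g2 _ hw
    have e2 : Commute c (x * α * x⁻¹) := g4
    have e3 := e1.mul_left e2
    rwa [mul_assoc _ c c, hcc, mul_one] at e3
  · obtain ⟨a, ha, rfl⟩ := hs
    exact ⟨x * a, A.mul_mem hx ha, by group⟩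
  · obtain ⟨a, ha, e⟩ := hs
    refine ⟨x⁻¹ * a, A.mul_mem (A.inv_mem hx) ha, ?_⟩
    calc x⁻¹ * a * c * (x⁻¹ * a)⁻¹ = x⁻¹ * (a * c * a⁻¹) * x := by group
      _ = _ := by rw [e]; group

theorem CH.uniq' (h : CH r φ α τ) {u β γ : Γ} (hu : u ∈ Cl τ) (hβ : β ∈ Cl α) (hγ : γ ∈ Cl α)
    (h1 : β * u = u * β) (h2 : γ * u = u * γ) : β = γ := by
  obtain ⟨g, rfl⟩ := hu
  have e : Cl (g * α * g⁻¹) = Cl α := Cl_eq ⟨g, rfl⟩
  rw [(h.conj g).uniq (e ▸ hβ) h1, (h.conj g).uniq (e ▸ hγ) h2]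

/-- If `τ v` is conjugate to `τ` but `v` is not, then `v` centralises all conjugates of `α`. -/
theorem CH.count (h : CH r φ α τ)
    (hodd : ∀ y : Γ, y ≠ 1 → y * y = 1 → y * τ = τ * y → Odd (Nat.card (AA α y)))
    {v : Γ} (v2 : v * v = 1) (hv : v ∉ Cl τ) (hvτ : v * τ = τ * v) (hu : τ * v ∈ Cl τ)
    {β : Γ} (hβ : β ∈ Cl α) : β * v = v * β := by
  classical
  by_contra hne
  have hsq : ∀ b ∈ Cl v, b * b = 1 := by
    rintro _ ⟨g, rfl⟩
    exact H40.RankOne.conj_sq v2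
  have hev : ∀ b ∈ Cl v, Even (orderOf (τ * b)) := by
    intro b hb
    refine H9.even_orderOf_mul_of_not_isConj h.t2 (hsq b hb) fun hc => hv ?_
    obtain ⟨g, e⟩ := isConj_iff.1 hc
    rw [← Cl_eq (show b ∈ Cl τ from ⟨g, e⟩), Cl_eq hb]
    exact self_mem_Cl v
  have hyα : ∀ b ∈ Cl v, α * half (τ * b) = half (τ * b) * α := fun b hb =>
    (h.cen _ (half_comm h.t2 (hsq b hb) (hev b hb)).1).symm
  let B : Γ → Set Γ := fun b => Orb (AA α (half (τ * b))) b
  have hsub : ∀ b ∈ Cl v, B b ⊆ Cl v := by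
    rintro b hb _ ⟨x, -, rfl⟩
    exact conj_mem_Cl hb x
  have heq : ∀ b ∈ Cl v, ∀ c ∈ B b, B c = B b := by
    intro b hb c hc
    have hc' := hsub b hb hc
    obtain ⟨c1, c2⟩ := half_comm h.t2 (hsq b hb) (hev b hb)
    have hb' : b ∈ 𝐍(AA α (half (τ * b))) := le_norm_AA _ _ (mem_cent1_iff.2 c2.symm)
    have hτ' : τ ∈ 𝐍(AA α (half (τ * b))) := le_norm_AA _ _ (mem_cent1_iff.2 c1.symm)
    have e : half (τ * b) = half (τ * c) := by
      refine eq_half ?_ (half_ne_one (hev b hb)) (half_sq (hev b hb))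
      obtain ⟨x, hx, rfl⟩ := hc
      have e1 : τ * (x * b * x⁻¹) = τ * b * (b⁻¹ * x * b⁻¹⁻¹ * x⁻¹) := by group
      rw [e1]
      exact half_mem_of_odd (hev b hb) (hodd _ (half_ne_one (hev b hb)) (half_sq (hev b hb)) c1)
        (Subgroup.mul_mem _ hτ' hb') (AA_le _ _)
        (Subgroup.mul_mem _ ((Subgroup.mem_normalizer_iff.1 (Subgroup.inv_mem _ hb') x).1 hx)
          (Subgroup.inv_mem _ hx))
    show Orb (AA α (half (τ * c))) c = _
    rw [← e]
    exact Orb_eq hc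
  set n := (fs (Cl α)).card with hn
  set k := cc (Cl α) v with hk
  have hsum : ∀ S : Set Γ, S ⊆ Cl v → (fs S).card * k = ∑ γ ∈ fs (Cl α), cc S γ := by
    intro S hS
    rw [← sum_cc, Finset.sum_congr rfl fun s hs => cc_Cl (b := α) (hS (mem_fs.1 hs)),
      Finset.sum_const, smul_eq_mul]
  have hkn : k < n := by
    refine Finset.card_lt_card ⟨Finset.filter_subset _ _, fun hs => hne ?_⟩
    exact (Finset.mem_filter.1 (hs (mem_fs.2 hβ))).2
  have key := part_count (fs (Cl v)) (fun b => fs (B b)) (fun b _ => mem_fs.2 (self_mem_Orb _ b))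
    (fun b hb c hc => mem_fs.2 (hsub b (mem_fs.1 hb) (mem_fs.1 hc)))
    (fun b hb c hc => by rw [heq b (mem_fs.1 hb) c (mem_fs.1 hc)])
    (fun s => s * α = α * s) n k (fun b hb => ?_) (mem_fs.2 (self_mem_Cl v)) ?_
  · rw [hsum _ subset_rfl, Finset.sum_congr rfl fun s hs => cc_Cl (b := v) (mem_fs.1 hs),
      Finset.sum_const, smul_eq_mul] at key
    exact lt_irrefl _ key
  · have hb' := mem_fs.1 hb
    rw [hsum _ (hsub b hb')]
    refine (Finset.sum_le_sum fun γ hγ => h.lb (hyα b hb') (half_sq (hev b hb')) (hsq b hb')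
      (half_comm h.t2 (hsq b hb') (hev b hb')).2.symm (mem_fs.1 hγ)).trans ?_
    rw [Finset.sum_const, smul_eq_mul]
    rfl
  · have hv' := self_mem_Cl v
    have e : τ * v = half (τ * v) := by
      refine eq_half (Subgroup.mem_zpowers _) ?_ (H24.ZD.mul_sq_of_comm h.t2 v2 hvτ.symm)
      obtain ⟨g, e⟩ := hu
      exact e ▸ H40.RankOne.conj_ne_one h.t1
    have hA : AA α (half (τ * v)) ≤ 𝐂[v] := by
      refine (Subgroup.closure_le _).2 fun γ hγ => ?_
      rw [h.uniq' (e ▸ hu) hγ.1 (self_mem_Cl α) (mem_cent1_iff.1 hγ.2) (hyα v hv')]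
      exact mem_cent1_iff.2 (h.cen v hvτ).symm
    rw [Finset.filter_true_of_mem, mul_comm n]
    · exact Nat.mul_lt_mul_of_pos_left hkn (Finset.card_pos.2 ⟨v, mem_fs.2 (self_mem_Orb _ v)⟩)
    · intro s hs
      obtain ⟨x, hx, rfl⟩ := mem_fs.1 hs
      rw [mem_cent1_iff.1 (hA hx), mul_inv_cancel_right]
      exact h.cen v hvτ

end H24.Cop
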