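import Mathlib
import Cfsg.Agent.Base
import Cfsg.Agent.Lib.Cop.Pet2
import Cfsg.Agent.Lib.ZD.BW

/-!
# A coprime automorphism centralising the centraliser of an involution, III

`H24.Cop.CH.odd`: the normal closure of `α` has odd order.
-/

set_option autoImplicit false
set_option linter.unusedSectionVars false

namespace H24.Cop

open Cfsg H45 H69 H1.ZD MulAction
open H42.BSE (Od)

universe u

variable {Γ : Type u} [Group Γ] [Finite Γ] {r : ℕ} {φ : Γ →* Multiplicative (ZMod r)} {α τ : Γ}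

/-- The class of `α` as a type. -/
def Pt (α : Γ) : Type u := {β : Γ // β ∈ Cl α}

instance (α : Γ) : MulAction Γ (Pt α) where
  smul g β := ⟨g * β.1 * g⁻¹, conj_mem_Cl β.2 g⟩
  one_smul β := Subtype.ext (by show 1 * β.1 * 1⁻¹ = β.1; simp)
  mul_smul g h β := Subtype.ext (by
    show g * h * β.1 * (g * h)⁻¹ = g * (h * β.1 * h⁻¹) * g⁻¹; group)

theorem smul_val (g : Γ) (β : Pt α) : (g • β).1 = g * β.1 * g⁻¹ := rfl

theorem smul_eq_iff {g : Γ} {β : Pt α} : g • β = β ↔ β.1 * g = g * β.1 := by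
  have : g • β = β ↔ (g • β).1 = β.1 := Subtype.ext_iff
  rw [this, smul_val, mul_inv_eq_iff_eq_mul, eq_comm]

theorem CH.exists_pair (h : CH r φ α τ) {d : Γ} (hd : d ∈ Cl τ) : ∃ β ∈ Cl α, CH r φ β d := by
  obtain ⟨g, rfl⟩ := hd
  exact ⟨_, ⟨g, rfl⟩, h.conj g⟩

theorem CH.no_edge (h : CH r φ α τ)
    (hodd : ∀ d ∈ Cl τ, ∀ y : Γ, y ≠ 1 → y * y = 1 → y * d = d * y → Odd (Nat.card (AA α y)))
    (hcent : ∀ v : Γ, v ≠ 1 → v * v = 1 → ∃ β ∈ Cl α, β * v ≠ v * β)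
    {u : Γ} (hu : u ∈ Cl τ) (hc : u * τ = τ * u) : u = τ := by
  by_contra hne
  have hsq : ∀ d ∈ Cl τ, d * d = 1 := fun d hd => (h.exists_pair hd).choose_spec.2.t2
  have hmul : ∀ d ∈ Cl τ, ∀ d' ∈ Cl τ, d ≠ d' → d * d' = d' * d → d * d' ∈ Cl τ := by
    intro d hd d' hd' h1 h2
    by_contra hv
    obtain ⟨β, hβ, H⟩ := h.exists_pair hd
    have e : d * (d * d') = d' := by rw [← mul_assoc, H.t2, one_mul]
    obtain ⟨γ, hγ, hγ'⟩ := hcent (d * d') (fun e' => h1 (by rw [← e, e', mul_one]))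
      (H24.ZD.mul_sq_of_comm H.t2 (hsq d' hd') h2)
    refine hγ' (H.count (fun y a b c => ?_) (H24.ZD.mul_sq_of_comm H.t2 (hsq d' hd') h2)
      (by rwa [Cl_eq hd]) (by rw [e, mul_assoc, ← h2, e]) (by rwa [e, Cl_eq hd]) (by rwa [Cl_eq hβ]))
    rw [AA, Cl_eq hβ]
    exact hodd d hd y a b c
  have huniq : ∀ d ∈ Cl τ, ∀ a b : Pt α, d • a = a → d • b = b → a = b := fun d hd a b ha hb =>
    Subtype.ext (h.uniq' hd a.2 b.2 (smul_eq_iff.1 ha) (smul_eq_iff.1 hb))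
  have hZ : ZH (Pt α) (Cl τ) := by
    refine ⟨fun d hd g => conj_mem_Cl hd g, fun d hd => (h.exists_pair hd).choose_spec.2.t1, hsq,
      fun d hd => ?_, huniq, fun d hd d' hd' h1 h2 => huniq _ (hmul d hd d' hd' h1 h2)⟩
    obtain ⟨β, hβ, H⟩ := h.exists_pair hd
    exact ⟨⟨β, hβ⟩, smul_eq_iff.2 H.comm.symm⟩
  have hDl : ∀ a : Pt α, a ∈ Dl (Pt α) (Cl τ) ⊤ := by
    rintro ⟨_, g, rfl⟩
    exact ⟨_, ⟨g, rfl⟩, trivial, smul_eq_iff.2 (h.conj g).comm.symm⟩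
  obtain ⟨β, hβ, hβ'⟩ := hcent τ h.t1 h.t2
  let a : Pt α := ⟨α, self_mem_Cl α⟩
  let b : Pt α := ⟨β, hβ⟩
  have hab : a ≠ b := fun e => hβ' (by
    rw [← show α = β from congrArg Subtype.val e]; exact h.comm.symm)
  obtain ⟨t, ht, -, t1, t2⟩ := hZ.Dl_swap (hDl a) (hDl b) hab
  obtain ⟨c, hc'⟩ := hZ.ex t ht
  have hsub : Tt (Cl τ) a b ∩ (⊤ : Subgroup Γ) ⊆ Da (Cl τ) c ∩ (⊤ : Subgroup Γ) := by
    rintro s ⟨⟨hs, s1⟩, -⟩
    refine ⟨⟨hs, ?_⟩, trivial⟩
    have s2 : s • b = a := by rw [← s1, hZ.smul_smul hs]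
    have hx : (s * t) • a = a := by rw [mul_smul, t1, s2]
    have hn : t ∈ 𝐍(𝐂[s * t]) := by
      refine H24.ZD.mem_norm_of fun x hx => mem_cent1_iff.2 ?_
      have e1 : Commute x (s * t)⁻¹ := Commute.inv_right (mem_cent1_iff.1 hx)
      have e2 : t * (s * t)⁻¹ * t⁻¹ = s * t := by
        rw [mul_inv_rev, hZ.inv_eq hs, hZ.inv_eq ht, ← mul_assoc, hsq t ht, one_mul]
      calc t * x * t⁻¹ * (s * t) = t * x * t⁻¹ * (t * (s * t)⁻¹ * t⁻¹) := by rw [e2]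
        _ = t * (x * (s * t)⁻¹) * t⁻¹ := by group
        _ = (t * (s * t)⁻¹ * t⁻¹) * (t * x * t⁻¹) := by rw [e1.eq]; group
        _ = _ := by rw [e2]
    obtain ⟨γ, g1, g2, g3⟩ := h.exists_fix1 (hsq t ht) hn (self_mem_Cl α)
      (mem_cent1_iff.2 (smul_eq_iff.1 hx))
    have e : (⟨γ, g1⟩ : Pt α) = c := huniq t ht _ _ (smul_eq_iff.2 g3.symm) hc'
    have e1 : (s * t) • c = c := by
      rw [← e]
      exact smul_eq_iff.2 (mem_cent1_iff.1 g2)
    rwa [mul_smul, hc'] at e1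
  have heq := Set.eq_of_subset_of_ncard_le hsub (by
    rw [hZ.card_Tt (hDl a) (hDl b) hab, hZ.card_Da_eq (hDl a) (hDl c)]) (Set.toFinite _)
  obtain ⟨g, rfl⟩ := ht
  have hu' := conj_mem_Cl hu g
  have hcomm : g * u * g⁻¹ * (g * τ * g⁻¹) = g * τ * g⁻¹ * (g * u * g⁻¹) := by
    calc g * u * g⁻¹ * (g * τ * g⁻¹) = g * (u * τ) * g⁻¹ := by group
      _ = _ := by rw [hc]; group
  have hT : g * u * g⁻¹ ∈ Tt (Cl τ) a b ∩ (⊤ : Subgroup Γ) := by
    rw [heq]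
    exact ⟨⟨hu', hZ.smul_eq_of_comm ⟨⟨g, rfl⟩, hc'⟩ hcomm⟩, trivial⟩
  have s1 : (g * u * g⁻¹) • a = b := hT.1.2
  have s2 : (g * u * g⁻¹) • b = a := by rw [← s1, hZ.smul_smul hu']
  refine hab (hZ.prod _ hu' _ ⟨g, rfl⟩ (by simpa using hne) hcomm a b ?_ ?_)
  · rw [mul_smul, t1, s2]
  · rw [mul_smul, t2, s1]

theorem CH.sub (h : CH r φ α τ) {X : Subgroup Γ} (h1 : α ∈ X) (h2 : τ ∈ X) :
    CH r (φ.comp X.subtype) (⟨α, h1⟩ : X) ⟨τ, h2⟩ := by
  refine ⟨⟨h.pr, h.ne2, by rw [← Subgroup.orderOf_coe]; exact h.ord,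
    fun hd => h.nsq (hd.trans (Subgroup.card_subgroup_dvd_card X)), h.ph⟩,
    fun e => h.t1 (congrArg Subtype.val e), Subtype.ext h.t2, fun g hg => Subtype.ext ?_⟩
  exact h.cen g (congrArg Subtype.val hg)

theorem CH.quo (h : CH r φ α τ) (N : Subgroup Γ) [N.Normal] (hN : N ≤ φ.ker) (h2 : τ ∉ N)
    (hc : ∀ g : Γ, τ * g * τ⁻¹ * g⁻¹ ∈ N → α * g * α⁻¹ * g⁻¹ ∈ N) :
    CH r (QuotientGroup.lift N φ hN) (α : Γ ⧸ N) (τ : Γ ⧸ N) := by
  have hph : QuotientGroup.lift N φ hN (α : Γ ⧸ N) ≠ 1 := h.ph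
  refine ⟨⟨h.pr, h.ne2, ?_, fun hd => h.nsq (hd.trans (Subgroup.card_quotient_dvd_card N)), hph⟩,
    fun e => h2 ((QuotientGroup.eq_one_iff τ).1 e), by rw [← QuotientGroup.mk_mul, h.t2]; rfl, ?_⟩
  · have h1 : orderOf (α : Γ ⧸ N) ∣ r := h.ord ▸ orderOf_map_dvd (QuotientGroup.mk' N) α
    rcases (Nat.dvd_prime h.pr).1 h1 with e | e
    · exact absurd (by rw [orderOf_eq_one_iff.1 e, map_one]) hph
    · exact e
  · intro g hg
    obtain ⟨g, rfl⟩ := QuotientGroup.mk_surjective g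
    have := hc g ((QuotientGroup.eq_one_iff _).1 (by
      simp only [QuotientGroup.mk_mul, QuotientGroup.mk_inv, ← hg]; group))
    rw [← QuotientGroup.eq_one_iff] at this
    simp only [QuotientGroup.mk_mul, QuotientGroup.mk_inv] at this
    calc (g : Γ ⧸ N) * α = ((α : Γ ⧸ N) * g * (α : Γ ⧸ N)⁻¹ * (g : Γ ⧸ N)⁻¹) * (g * α) := by
          rw [this, one_mul]
      _ = _ := by group

theorem relIndex_comap_mk (N : Subgroup Γ) [N.Normal] (K : Subgroup (Γ ⧸ N)) :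
    N.relIndex (K.comap (QuotientGroup.mk' N)) = Nat.card K := by
  have := Subgroup.relIndex_ker (K.comap (QuotientGroup.mk' N)) (QuotientGroup.mk' N)
  rwa [QuotientGroup.ker_mk', Subgroup.map_comap_eq_self_of_surjective (QuotientGroup.mk'_surjective N)]
    at this

theorem le_comap_mk (N : Subgroup Γ) [N.Normal] (K : Subgroup (Γ ⧸ N)) :
    N ≤ K.comap (QuotientGroup.mk' N) := fun x hx => by
  rw [Subgroup.mem_comap, QuotientGroup.mk'_apply, (QuotientGroup.eq_one_iff x).2 hx]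
  exact K.one_mem

theorem card_quo_lt (N : Subgroup Γ) [N.Normal] (h : N ≠ ⊥) : Nat.card (Γ ⧸ N) < Nat.card Γ := by
  rw [Subgroup.card_eq_card_quotient_mul_card_subgroup N]
  exact lt_mul_of_one_lt_right Nat.card_pos ((Subgroup.one_lt_card_iff_ne_bot N).2 h)

theorem CA.odd_zpowers (h : CA r φ α) : Odd (Nat.card (Subgroup.zpowers α)) := by
  rw [Nat.card_zpowers, h.ord]
  exact h.pr.odd_of_ne_two h.ne2

theorem normal_zpowers {y : Γ} (h : ∀ g : Γ, g * y = y * g) : (Subgroup.zpowers y).Normal := by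
  refine ⟨fun x hx g => ?_⟩
  obtain ⟨i, rfl⟩ := Subgroup.mem_zpowers_iff.1 hx
  rw [← conj_zpow, h, mul_inv_cancel_right]
  exact hx

theorem normal_closure_Cl (α : Γ) : (Subgroup.closure (Cl α)).Normal := by
  refine ⟨fun x hx g => ?_⟩
  have : Subgroup.closure (Cl α) ^ᶜ g ≤ Subgroup.closure (Cl α) := by
    rw [MonoidHom.map_closure, Subgroup.closure_le]
    rintro _ ⟨s, hs, rfl⟩
    exact Subgroup.subset_closure (conj_mem_Cl hs g)
  exact this (cj_mem g hx)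

theorem odd_aux (n : ℕ) : ∀ (Γ : Type u) [Group Γ] [Finite Γ] (φ : Γ →* Multiplicative (ZMod r))
    (α τ : Γ), Nat.card Γ = n → CH r φ α τ →
    ∃ N : Subgroup Γ, N.Normal ∧ Odd (Nat.card N) ∧ α ∈ N := by
  induction n using Nat.strong_induction_on with
  | _ n ih =>
  intro Γ _ _ φ α τ hn h
  by_contra hcon
  have hα1 : α ≠ 1 := fun e => h.ph (by rw [e, map_one])
  have hO : ∀ N : Subgroup Γ, N.Normal → Odd (Nat.card N) → N = ⊥ := by
    intro N hN hodd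
    by_contra hb
    have hker : N ≤ φ.ker := by
      intro x hx
      by_contra hx'
      obtain ⟨_, ⟨g, rfl⟩, hg⟩ := h.toCA.exists_mem hx hx'
      refine hcon ⟨N, hN, hodd, ?_⟩
      simpa [mul_assoc] using hN.conj_mem _ hg g⁻¹
    have hτ : τ ∉ N := fun hτ => by
      have := H42.BSE.FourA.odd_orderOf_of_mem hodd hτ
      rw [H42.BSE.orderOf_two h.t1 h.t2] at this
      exact absurd this (by decide)
    obtain ⟨K, hK, hK1, hK2⟩ := ih _ (hn ▸ card_quo_lt N hb) _ _ _ _ rfl (h.quo N hker hτ fun g hg => by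
      obtain ⟨o, ho, c, -, hc, rfl⟩ := H24.ZD.exists_od_mul_cent (M := ⊤) h.t2 hodd le_top trivial hg
      have e : α * (o * c) * α⁻¹ * (o * c)⁻¹ = α * o * α⁻¹ * o⁻¹ := by
        calc α * (o * c) * α⁻¹ * (o * c)⁻¹ = α * o * α⁻¹ * (α * c) * α⁻¹ * c⁻¹ * o⁻¹ := by group
          _ = _ := by rw [← h.cen c hc]; group
      rw [e]
      exact N.mul_mem (hN.conj_mem _ ho.1 α) (N.inv_mem ho.1))
    refine hcon ⟨K.comap (QuotientGroup.mk' N), inferInstance, ?_, hK2⟩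
    have e := Subgroup.relIndex_mul_relIndex ⊥ N _ bot_le (le_comap_mk N K)
    rw [Subgroup.relIndex_bot_left, Subgroup.relIndex_bot_left, relIndex_comap_mk] at e
    exact e ▸ hodd.mul hK1
  have hZα : ¬ ∀ g : Γ, g * α = α * g := fun hc =>
    hcon ⟨_, normal_zpowers hc, h.toCA.odd_zpowers, Subgroup.mem_zpowers α⟩
  have hZ : ∀ y : Γ, y ≠ 1 → y * y = 1 → ¬ ∀ g : Γ, g * y = y * g := by
    intro y y1 y2 hy
    haveI := normal_zpowers hy
    have hP := isPGroup_zpowers_of_sq y2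
    have hτ : τ ∉ Subgroup.zpowers y := fun hτ => by
      rcases (H24.ZD.mem_zpowers_sq y2).1 hτ with e | e
      · exact h.t1 e
      · exact hZα fun g => h.cen g (e ▸ hy g)
    obtain ⟨K, hK, hK1, hK2⟩ := ih _ (hn ▸ card_quo_lt (Subgroup.zpowers y) (by simpa using y1)) _ _ _ _ rfl
      (h.quo _ (h.toCA.le_ker hP) hτ fun g hg => by
        have e : g * α * g⁻¹ = α := by
          refine h.uniq ⟨g, rfl⟩ ?_
          have e1 := (h.conj g).comm
          obtain ⟨w, hw, e2⟩ : ∃ w : Γ, (∀ x : Γ, x * w = w * x) ∧ τ = w * (g * τ * g⁻¹) := by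
            refine ⟨τ * g * τ⁻¹ * g⁻¹, ?_, ?_⟩
            · rcases (H24.ZD.mem_zpowers_sq y2).1 hg with e | e
              · rw [e]; simp
              · rw [e]; exact hy
            · group
          calc g * α * g⁻¹ * τ = g * α * g⁻¹ * (w * (g * τ * g⁻¹)) := by rw [← e2]
            _ = w * (g * α * g⁻¹ * (g * τ * g⁻¹)) := by rw [← mul_assoc _ w, hw, mul_assoc]
            _ = w * (g * τ * g⁻¹) * (g * α * g⁻¹) := by rw [← e1, mul_assoc w]
            _ = _ := by rw [← e2]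
        have e3 : α * g * α⁻¹ * g⁻¹ = α * (g * α * g⁻¹)⁻¹ := by group
        rw [e3, e, mul_inv_cancel]
        exact Subgroup.one_mem _)
    set M := K.comap (QuotientGroup.mk' (Subgroup.zpowers y)) with hM
    have hS : Syl 2 (Subgroup.zpowers y) M := by
      refine isSylowIn_of_not_dvd_relIndex hP (le_comap_mk _ K) ?_
      rw [relIndex_comap_mk]
      exact hK1.not_two_dvd_nat
    have hB := normalPCompl_Burnside hS (fun g _ x hx => by
      obtain ⟨i, rfl⟩ := Subgroup.mem_zpowers_iff.1 hx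
      exact (Commute.zpow_right (hy g) i).symm)
    have hle : Subgroup.zpowers α ≤ Od M := hB.sub_p'core (Subgroup.zpowers_le.2 hK2) (by
      rw [isPi_zpowers_iff, p_elt_compl_singleton_iff, h.ord]
      exact (Nat.coprime_primes h.pr Nat.prime_two).2 h.ne2)
    refine hcon ⟨Od M, ?_, H42.BSE.odd_card_Od M, hle (Subgroup.mem_zpowers α)⟩
    have hM' : M ⊴ ⊤ := ⟨le_top, by rw [Subgroup.normalizer_eq_top]⟩
    exact Subgroup.normalizer_eq_top_iff.1 (top_le_iff.1 (pcore_normal_trans _ hM').2)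
  have hsub : ∀ X : Subgroup Γ, X ≠ ⊤ → ∀ β ∈ Cl α, ∀ d, CH r φ β d → β ∈ X → d ∈ X →
      Odd (Nat.card (Subgroup.closure (Cl α ∩ X))) := by
    intro X hX β hβ d H h1 h2
    obtain ⟨K, hK, hK1, hK2⟩ := ih _ (by
      have := H42.BSE.card_lt_of_lt' (lt_top_iff_ne_top.2 hX)
      rwa [Subgroup.card_top, hn] at this) _ _ _ _ rfl (H.sub h1 h2)
    refine H24.ZD.odd_le (B := K.map X.subtype) (by rwa [Subgroup.card_map_of_injective X.subtype_injective]) ?_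
    refine (Subgroup.closure_le _).2 fun γ hγ => ?_
    obtain ⟨x, hx, rfl⟩ := h.toCA.conj_in hβ hγ.1 h1 hγ.2
    exact ⟨_, hK.conj_mem _ hK2 ⟨x, hx⟩, rfl⟩
  have hedge := fun u => h.no_edge (u := u) (fun d hd y y1 y2 hy => ?_) (fun v v1 v2 => ?_)
  · refine hZ τ h.t1 h.t2 fun g => ?_
    have := H24.ZD.zstar_comm (M := ⊤) trivial h.t2 (fun g _ hg => hedge _ ⟨g, rfl⟩ hg.symm)
      (Subgroup.mem_top g)
    rw [hO (Od ⊤) (Subgroup.normalizer_eq_top_iff.1 (top_le_iff.1 (pcore_norm _ _)))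
      (H42.BSE.odd_card_Od ⊤), Subgroup.mem_bot] at this
    calc g * τ = (τ * g * τ⁻¹ * g⁻¹) * (g * τ) := by rw [this, one_mul]
      _ = _ := by group
  · obtain ⟨β, hβ, H⟩ := h.exists_pair hd
    refine hsub 𝐂[y] (fun e => hZ y y1 y2 fun g => mem_cent1_iff.1 (e ▸ Subgroup.mem_top g)) β hβ d H
      (mem_cent1_iff.2 (H.cen y hy).symm) (mem_cent1_iff.2 hy.symm)
  · by_contra hv
    push Not at hv
    haveI := normal_closure_Cl α
    set A := Subgroup.closure (Cl α) with hA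
    have hαA : α ∈ A := Subgroup.subset_closure (self_mem_Cl α)
    have htop : A ⊔ Subgroup.zpowers τ = ⊤ := by
      by_contra hX
      have := hsub _ hX α (self_mem_Cl α) τ h (Subgroup.mem_sup_left hαA)
        (Subgroup.mem_sup_right (Subgroup.mem_zpowers τ))
      rw [Set.inter_eq_left.2 fun s hs => Subgroup.mem_sup_left (Subgroup.subset_closure hs)] at this
      exact hcon ⟨A, inferInstance, this, hαA⟩
    have hvA : v ∈ 𝐂(A) := by
      have : A ≤ 𝐂[v] := (Subgroup.closure_le _).2 fun s hs => mem_cent1_iff.2 (hv s hs)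
      exact fun x hx => mem_cent1_iff.1 (this hx)
    obtain ⟨S, hS, hτS⟩ := exists_isSylowIn_le (isPGroup_zpowers_of_sq h.t2) (L := ⊤) le_top
    have hN : (⊤ : Subgroup Γ) ≤ 𝐍(𝐂(A)) := by rw [Subgroup.normalizer_eq_top]
    have hR := hS.inf_normal le_top hN
    have hR1 : S ⊓ 𝐂(A) ≠ ⊥ := hR.dvd_card_iff.1 (by
      rw [← H42.BSE.orderOf_two v1 v2]
      exact Subgroup.orderOf_dvd_natCard _ hvA)
    have hR2 := H69.inf_centralizer_ne_bot hR.isP (isPGroup_zpowers_of_sq h.t2)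
      (fun x hx => H24.ZD.mem_norm_inf (Subgroup.le_normalizer (hτS hx)) (hN trivial)) hR1
    obtain ⟨y, hy, hy2⟩ := exists_orderOf_eq_prime (hR.isP.to_le inf_le_left) hR2
    obtain ⟨y1, y2⟩ := H42.BSE.sq_of_orderOf hy2
    refine hZ y y1 y2 fun g => mem_cent1_iff.1 ?_
    have : A ⊔ Subgroup.zpowers τ ≤ 𝐂[y] :=
      sup_le (fun x hx => mem_cent1_iff.2 (hy.1.2 x hx)) (fun x hx => mem_cent1_iff.2 (hy.2 x hx))
    exact this (htop ▸ Subgroup.mem_top g)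

/-- The normal closure of `α` has odd order. -/
theorem CH.odd (h : CH r φ α τ) : ∃ N : Subgroup Γ, N.Normal ∧ Odd (Nat.card N) ∧ α ∈ N :=
  odd_aux _ Γ φ α τ rfl h

end H24.Cop
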